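import Mathlib

set_option autoImplicit false

namespace Cfsg.Agent.Lib.Helper24.ES3

variable {G : Type*} [Group G]

/-- `P ≤ G` is extraspecial of order `p^3`, exponent `p`, with centre `⟨z⟩` (element form). -/
structure Dat (p : ℕ) (P : Subgroup G) (z : G) : Prop where
  card : Nat.card P = p ^ 3
  exp : ∀ x ∈ P, x ^ p = 1
  zP : z ∈ P
  z1 : z ≠ 1
  zc : ∀ x ∈ P, x * z = z * x
  comm : ∀ x ∈ P, ∀ y ∈ P, ∃ k : ℕ, x * y * x⁻¹ * y⁻¹ = z ^ k
  cen : ∀ x ∈ P, (∀ y ∈ P, x * y = y * x) → ∃ k : ℕ, x = z ^ k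

/-- hypothesis `(H_w)`. -/
def HW (p : ℕ) (z w : G) : Prop :=
  ∃ (g : G) (e : ℕ), ¬ p ∣ e ∧ g * w * g⁻¹ = w ∧ g * z * g⁻¹ = z * w ^ e

/-- the normalizer, as a type. -/
abbrev NP (P : Subgroup G) := ↥(Subgroup.normalizer (P : Set G))

/-- `P / P'` additively. -/
abbrev VV (P : Subgroup G) := Additive (Abelianization ↥P)

/-- functoriality of the abelianization on automorphisms. -/
def abHom (H : Type*) [Group H] : MulAut H →* MulAut (Abelianization H) where
  toFun f := MulEquiv.abelianizationCongr f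
  map_one' := by
    ext x
    obtain ⟨x, rfl⟩ := QuotientGroup.mk_surjective x
    rfl
  map_mul' f g := by
    ext x
    obtain ⟨x, rfl⟩ := QuotientGroup.mk_surjective x
    rfl

/-- the class map. -/
def cls (P : Subgroup G) (w : ↥P) : VV P := Additive.ofMul (Abelianization.of w)

/-- the action of `N_G(P)` on `P/P'`, linear for any `ZMod p`-module structure. -/
noncomputable def rho (p : ℕ) (P : Subgroup G) [Module (ZMod p) (VV P)] :
    NP P →* (VV P ≃ₗ[ZMod p] VV P) where
  toFun n :=
    { MulEquiv.toAdditive (abHom ↥P (Subgroup.normalizerMonoidHom P n)) with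
      map_smul' := fun c x =>
        ZMod.map_smul (MulEquiv.toAdditive (abHom ↥P (Subgroup.normalizerMonoidHom P n))) c x }
  map_one' := by
    ext x
    simp
  map_mul' a b := by
    ext x
    simp

theorem rho_cls (p : ℕ) (P : Subgroup G) [Module (ZMod p) (VV P)] (n : NP P) (w : ↥P) :
    rho p P n (cls P w) = cls P (Subgroup.normalizerMonoidHom P n w) := rfl

theorem rho_cls' (p : ℕ) (P : Subgroup G) [Module (ZMod p) (VV P)] (n : NP P) (w w' : ↥P)
    (h : (w' : G) = (n : G) * w * (n : G)⁻¹) :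
    rho p P n (cls P w) = cls P w' := by
  rw [rho_cls]
  congr 1
  apply Subtype.ext
  rw [h]
  rfl

theorem cls_mul (P : Subgroup G) (a b : ↥P) : cls P (a * b) = cls P a + cls P b := rfl

theorem cls_surj (P : Subgroup G) (u : VV P) : ∃ w : ↥P, cls P w = u := by
  obtain ⟨x, hx⟩ := QuotientGroup.mk_surjective (Additive.toMul u)
  exact ⟨x, by rw [cls]; exact congrArg Additive.ofMul hx⟩

theorem cls_pow (P : Subgroup G) (a : ↥P) (m : ℕ) : cls P (a ^ m) = m • cls P a := by
  induction m with
  | zero => simp [cls]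
  | succ k ih => rw [pow_succ, cls_mul, ih, succ_nsmul]

/-- the module structure. -/
@[instance_reducible] noncomputable def modV {p : ℕ} {P : Subgroup G} {z : G} (h : Dat p P z) :
    Module (ZMod p) (VV P) :=
  AddCommGroup.zmodModule (n := p) (fun u => by
    obtain ⟨w, rfl⟩ := cls_surj P u
    rw [← cls_pow]
    have : w ^ p = 1 := Subtype.ext (by simpa using h.exp w w.2)
    rw [this]
    simp [cls])

end Cfsg.Agent.Lib.Helper24.ES3
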